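import Groth.Agent.AlgSpLib.Covers
import Mathlib.AlgebraicGeometry.Morphisms.Affine

/-!
# Devissage of properties of spaces over an algebraic space along fppf coverings
-/

set_option autoImplicit false
set_option backward.isDefEq.respectTransparency.types false

universe u

open CategoryTheory CategoryTheory.Limits AlgebraicGeometry AlgSp Groth.Agent.AlgSpLib

namespace Groth.Agent.AlgSpDevFppf

variable {S : Scheme.{u}}

/-- Finite wide pullbacks of representable maps from schemes are schemes. -/
theorem exists_rep_widePullback {Q : MorphismProperty Scheme.{u}} [Q.IsStableUnderComposition]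
    [Q.IsStableUnderBaseChange] {U : Sp S} :
    ∀ (n : ℕ) (V : Fin (n + 1) → Over S) (g : ∀ k, (yon S).obj (V k) ⟶ U), (∀ k, RepWith Q (g k)) →
      ∃ (T : Over S) (e : widePullback U (fun k => (yon S).obj (V k)) g ≅ (yon S).obj T),
        RepWith Q (e.inv ≫ WidePullback.base g) := by
  intro n
  induction n with
  | zero =>
    intro V g hg
    refine ⟨V 0, ⟨WidePullback.π g 0, WidePullback.lift (g 0) (Fin.cases (𝟙 _) fun i => i.elim0)
      (Fin.cases (Category.id_comp _) fun i => i.elim0), ?_, WidePullback.lift_π _ _ _ _ _⟩, ?_⟩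
    · refine WidePullback.hom_ext _ _ _ (Fin.cases ?_ fun i => i.elim0) ?_
      · rw [Category.assoc]
        erw [WidePullback.lift_base]
        rw [Category.id_comp, WidePullback.π_arrow]
      · rw [Category.assoc]
        erw [WidePullback.lift_π]
        rw [Category.id_comp]
        exact Category.comp_id _
    · change RepWith Q (WidePullback.lift _ _ _ ≫ _)
      rw [WidePullback.lift_base]
      exact hg 0
  | succ n ih =>
    intro V g hg
    obtain ⟨Tn, e, hb⟩ := ih (fun k => V k.succ) (fun k => g k.succ) fun k => hg k.succ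
    let b : (yon S).obj Tn ⟶ U := e.inv ≫ WidePullback.base (fun k : Fin (n + 1) => g k.succ)
    obtain ⟨T, p, q, sq, hq⟩ : ∃ (T : Over S) (p : (yon S).obj T ⟶ (yon S).obj (V 0)) (q : T ⟶ Tn),
        IsPullback p ((yon S).map q) (g 0) b ∧ RepWith Q ((yon S).map q) :=
      ⟨_, _, _, (hg 0).rep.isPullback b, (repWith_yon_map_iff Q _).2 ((hg 0).property_snd b)⟩
    let f : ∀ k, (yon S).obj T ⟶ (yon S).obj (V k) :=
      Fin.cases p fun k => (yon S).map q ≫ e.inv ≫ WidePullback.π (fun k : Fin (n + 1) => g k.succ) k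
    have hf : ∀ k, f k ≫ g k = p ≫ g 0 := Fin.cases rfl fun k => by
      simp only [f, Fin.cases_succ, Category.assoc, WidePullback.π_arrow]
      exact sq.w.symm
    let l := WidePullback.lift (WidePullback.base g) (fun k : Fin (n + 1) => WidePullback.π g k.succ)
      fun k => WidePullback.π_arrow g k.succ
    have hw : WidePullback.π g 0 ≫ g 0 = (l ≫ e.hom) ≫ b := by
      simp only [b, l, Category.assoc, Iso.hom_inv_id_assoc, WidePullback.π_arrow]
      exact (WidePullback.lift_base _ _ _ _).symm
    refine ⟨T, ⟨sq.lift (WidePullback.π g 0) (l ≫ e.hom) hw, WidePullback.lift (p ≫ g 0) f hf, ?_, ?_⟩, ?_⟩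
    · refine WidePullback.hom_ext _ _ _ (Fin.cases ?_ fun k => ?_) ?_
      · rw [Category.assoc]
        erw [WidePullback.lift_base]
        rw [Category.id_comp, sq.lift_fst_assoc, WidePullback.π_arrow]
      · rw [Category.assoc]
        erw [WidePullback.lift_π]
        rw [Category.id_comp]
        exact sq.lift_fst _ _ _
      · rw [Category.assoc]
        erw [WidePullback.lift_π]
        rw [Category.id_comp]
        simp only [f, Fin.cases_succ, sq.lift_snd_assoc, Category.assoc, Iso.hom_inv_id_assoc, l]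
        exact WidePullback.lift_π _ _ _ _ _
    · refine sq.hom_ext ?_ ?_
      · rw [Category.assoc, sq.lift_fst, WidePullback.lift_π, Category.id_comp]; rfl
      · rw [Category.assoc, sq.lift_snd, Category.id_comp, ← Category.assoc, ← Iso.eq_comp_inv]
        refine WidePullback.hom_ext _ _ _ (fun k => ?_) ?_
        · simp only [l, Category.assoc]
          erw [WidePullback.lift_π, WidePullback.lift_π]
          rfl
        · simp only [l, Category.assoc]
          erw [WidePullback.lift_base, WidePullback.lift_base]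
          exact sq.w
    · change RepWith Q (WidePullback.lift (p ≫ g 0) f hf ≫ WidePullback.base g)
      rw [WidePullback.lift_base, sq.w]
      exact repWith_comp hq hb

section

variable {X : Sp S} (P : ∀ ⦃U : Sp S⦄, (U ⟶ X) → Prop)
  (hP : ∀ ⦃U : Sp S⦄ (a : U ⟶ X), IsAlgSpace U →
    ∀ ⦃ι : Type u⦄ (Ui : ι → Sp S) (g : ∀ i, Ui i ⟶ U), (∀ i, IsAlgSpace (Ui i)) →
      IsFppfCover Ui g →
      (∀ (n : ℕ) (c : Fin (n + 1) → ι),
        P (WidePullback.base (fun k : Fin (n + 1) => g (c k)) ≫ a)) → P a)

/-- The conclusion for spaces which are schemes with a given property. -/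
def HoldsFor (Good : Scheme.{u} → Prop) : Prop :=
  ∀ ⦃U : Sp S⦄ (a : U ⟶ X) (T : Over S) (_ : U ≅ (yon S).obj T), Good T.left →
    LocP @Flat a → LocP @LocallyOfFinitePresentation a → P a

include hP in
theorem holdsFor_step (hX : IsAlgSpace X) {Good Good' : Scheme.{u} → Prop} (Q : MorphismProperty Scheme.{u})
    [Q.IsMultiplicative] [Q.IsStableUnderBaseChange] (hQle : Q ≤ @IsOpenImmersion)
    (hι : ∀ (Y : Scheme.{u}) (V : Y.Opens), Good' Y → IsAffineOpen V → Q V.ι)
    (hgood : ∀ (Y : Scheme.{u}) (V : Y.Opens) (Z : Scheme.{u}) (q : Z ⟶ V.toScheme), Good' Y → IsAffineOpen V →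
      Q (q ≫ V.ι) → Good Z)
    (h : HoldsFor P Good) : HoldsFor P Good' := by
  intro U a T e hT hfl hlfp
  let V : T.left.affineOpens → Over S := fun v => Over.mk (v.1.ι ≫ T.hom)
  let g : ∀ v, (yon S).obj (V v) ⟶ U := fun v =>
    (yon S).map (Over.homMk v.1.ι rfl : V v ⟶ T) ≫ e.inv
  have hg : ∀ v, RepWith Q (g v) := fun v =>
    repWith_comp ((repWith_yon_map_iff Q _).2 (hι _ _ hT v.2)) (repWith_of_isIso Q e.inv)
  have hUA : IsAlgSpace U := (IsAlgSpace.yon_obj T).of_iso e.symm
  refine hP a hUA (fun v => (yon S).obj (V v)) g (fun v => IsAlgSpace.yon_obj _) ⟨fun v => ?_, fun x => ?_⟩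
    fun n c => ?_
  · exact ⟨locP_of_repWith (repWith_mono (fun _ _ f hf =>
      have : IsOpenImmersion f := hQle _ hf; (inferInstance : Flat f)) _ (hg v)),
      locP_of_repWith (repWith_mono (fun _ _ f hf =>
      have : IsOpenImmersion f := hQle _ hf; (inferInstance : LocallyOfFinitePresentation f)) _ (hg v))⟩
  · obtain ⟨t, rfl⟩ := surjective_ofPt (p := e.inv) (repWith_of_isIso _ _) x
    obtain ⟨_, ⟨O, hO, rfl⟩, ht, -⟩ :=
      T.left.isBasis_affineOpens.exists_subset_of_mem_open (Set.mem_univ t) isOpen_univ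
    refine ⟨⟨O, hO⟩, Points.ofPt (𝟙 _) ⟨t, ht⟩, ?_⟩
    rw [Points.map_ofPt, Category.id_comp]
    exact ofPt_comp _ _ _
  · obtain ⟨T', e', he'⟩ := exists_rep_widePullback (Q := Q) n (fun k => V (c k)) (fun k => g (c k))
      fun k => hg (c k)
    obtain ⟨q, hq⟩ := (yon S).map_surjective (e'.inv ≫ WidePullback.π (fun k => g (c k)) 0)
    have hbq : e'.inv ≫ WidePullback.base (fun k => g (c k)) =
        (yon S).map (q ≫ (Over.homMk (c 0).1.ι rfl : V (c 0) ⟶ T)) ≫ e.inv := by
      rw [Functor.map_comp, hq, Category.assoc, Category.assoc, ← WidePullback.π_arrow _ 0]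
    have hQq : Q ((q ≫ (Over.homMk (c 0).1.ι rfl : V (c 0) ⟶ T)).left) := by
      refine (repWith_yon_map_iff Q _).1 ?_
      have h2 := repWith_comp he' (repWith_of_isIso Q e.hom)
      rwa [hbq, Category.assoc, e.inv_hom_id, Category.comp_id] at h2
    have hop : RepWith @IsOpenImmersion (WidePullback.base (fun k => g (c k))) := by
      have h2 := repWith_comp (repWith_of_isIso Q e'.hom) he'
      rw [Iso.hom_inv_id_assoc] at h2
      exact repWith_mono hQle _ h2
    have hW : IsAlgSpace (widePullback U (fun k => (yon S).obj (V (c k))) fun k => g (c k)) :=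
      (IsAlgSpace.yon_obj T').of_iso e'.symm
    refine h _ T' e' (hgood _ (c 0).1 _ q.left hT (c 0).2 hQq) ?_ ?_
    · exact locP_comp hW hUA hX (locP_of_repWith (repWith_mono
        (fun _ _ f (_ : IsOpenImmersion f) => (inferInstance : Flat f)) _ hop)) hfl
    · exact locP_comp hW hUA hX (locP_of_repWith (repWith_mono
        (fun _ _ f (_ : IsOpenImmersion f) => (inferInstance : LocallyOfFinitePresentation f)) _ hop)) hlfp

include hP in
theorem holds_of_affine (hX : IsAlgSpace X) (haff : HoldsFor P fun Z => IsAffine Z) : P (𝟙 X) := by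
  have hsep : HoldsFor P fun Z => Z.IsSeparated := by
    refine holdsFor_step P hP hX (@IsOpenImmersion ⊓ @IsAffineHom) inf_le_left (fun Y V _ hV => ?_)
      (fun Y V Z q _ hV hq => ?_) haff
    · have : IsAffine V.toScheme := hV
      have : IsSeparated (terminal.from Y) := Scheme.IsSeparated.isSeparated_terminal_from
      have : IsAffineHom (V.ι ≫ terminal.from Y) := inferInstance
      exact ⟨inferInstance, IsAffineHom.of_comp V.ι (terminal.from Y)⟩
    · have : IsAffine V.toScheme := hV
      have : IsAffineHom (q ≫ V.ι) := hq.2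
      have : IsAffineHom q := IsAffineHom.of_comp q V.ι
      exact isAffine_of_isAffineHom q
  have hall : HoldsFor P fun _ => True := by
    refine holdsFor_step P hP hX @IsOpenImmersion le_rfl (fun Y V _ _ => inferInstance)
      (fun Y V Z q _ hV hq => ?_) hsep
    have : IsAffine V.toScheme := hV
    have : IsOpenImmersion (q ≫ V.ι) := hq
    have : IsOpenImmersion q := IsOpenImmersion.of_comp q V.ι
    exact ⟨by
      rw [Subsingleton.elim (terminal.from Z) (q ≫ terminal.from _)]
      infer_instance⟩
  obtain ⟨U₀, p, hp, hps⟩ := hX.atlas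
  refine hP (𝟙 X) hX (fun _ : PUnit.{u + 1} => (yon S).obj U₀) (fun _ => p) (fun _ => IsAlgSpace.yon_obj _)
    (isFppfCover_of_repWith_etale hp hps) fun n c => ?_
  obtain ⟨T', e', he'⟩ := exists_rep_widePullback (Q := @Etale) n (fun _ => U₀) (fun _ => p) fun _ => hp
  have h2 : RepWith @Etale (WidePullback.base (fun _ : Fin (n + 1) => p) ≫ 𝟙 X) := by
    have := repWith_comp (repWith_of_isIso @Etale e'.hom) he'
    rw [Iso.hom_inv_id_assoc] at this
    rwa [Category.comp_id]
  exact hall _ T' e' trivial (locP_of_repWith (repWith_mono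
      (fun _ _ f (_ : Etale f) => (inferInstance : Flat f)) _ h2))
    (locP_of_repWith (repWith_mono
      (fun _ _ f (_ : Etale f) => (inferInstance : LocallyOfFinitePresentation f)) _ h2))

end

end Groth.Agent.AlgSpDevFppf
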